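import Groth.Agent.S1451
import Groth.Agent.S2754
import Groth.Agent.L05.NeronOpen.Main
import Groth.Agent.L05.Henselization.FlatQFComponents
import Groth.Agent.L07.ChevalleyNorm
import Groth.Agent.L16.RatMapExt
import Mathlib.AlgebraicGeometry.Morphisms.QuasiFinite
import Mathlib.AlgebraicGeometry.Morphisms.FlatMono

/-! # Extending sections of unramified separated morphisms over geometrically unibranch points -/

set_option autoImplicit false
set_option linter.style.haveILetI false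
set_option backward.isDefEq.respectTransparency.types false
set_option backward.isDefEq.respectTransparency false

universe u

open CategoryTheory CategoryTheory.Limits AlgebraicGeometry TopologicalSpace

noncomputable section

namespace Groth.L05.SectionExtend

variable {X Y : Scheme.{u}}

theorem isDomain_stalk [AlgebraicGeometry.IsReduced Y] {y : Y} (hy : CAlg2.IsGeomUnibranch (Y.presheaf.stalk y)) :
    IsDomain (Y.presheaf.stalk y) := by
  haveI : IsDomain (CAlg2.red (Y.presheaf.stalk y)) := hy.1.1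
  exact (RingEquiv.quotientBot (Y.presheaf.stalk y)).symm.trans
    (Ideal.quotEquivOfEq (nilradical_eq_zero (Y.presheaf.stalk y)).symm) |>.toMulEquiv.isDomain _

/-- A point of a reduced scheme with domain stalk has an integral affine neighbourhood, if the components are locally
finite. -/
theorem exists_integral_nhd [AlgebraicGeometry.IsReduced Y]
    (hcomp : LocallyFinite (fun Z : ↥(irreducibleComponents ↥Y) => (Z : Set ↥Y))) (y : Y)
    [IsDomain (Y.presheaf.stalk y)] :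
    ∃ V : Y.Opens, IsAffineOpen V ∧ y ∈ V ∧ IsIntegral (V : Scheme.{u}) := by
  let C : ↥(irreducibleComponents ↥Y) := ⟨irreducibleComponent y, irreducibleComponent_mem_irreducibleComponents y⟩
  let E : Set Y := ⋃ Z : {Z : ↥(irreducibleComponents ↥Y) // Z ≠ C}, (Z.1 : Set Y)
  have hE : IsClosed E :=
    (hcomp.comp_injective Subtype.val_injective).isClosed_iUnion fun Z =>
      isClosed_of_mem_irreducibleComponents _ Z.1.2
  have hyE : y ∉ E := by
    intro h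
    obtain ⟨⟨⟨Z, hZ⟩, hne⟩, hyZ⟩ := Set.mem_iUnion.mp h
    refine hne (Subtype.ext ?_)
    obtain ⟨z, hz, rfl⟩ := (Groth.L16.bijOn_irreducibleComponents_specStalk Y y).surjOn ⟨hZ, hyZ⟩
    obtain ⟨z', hz', hzC⟩ := (Groth.L16.bijOn_irreducibleComponents_specStalk Y y).surjOn
      ⟨C.2, mem_irreducibleComponent⟩
    haveI : IrreducibleSpace (Spec (Y.presheaf.stalk y)) := PrimeSpectrum.irreducibleSpace
    simp only [Set.mem_ofPred_eq, irreducibleComponents_eq_singleton, Set.mem_singleton_iff] at hz hz'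
    have : z = z' := ((inseparable_iff_closure_eq).2 (hz.trans hz'.symm)).eq
    exact (congrArg (fun w => closure {Y.fromSpecStalk y w}) this).trans hzC
  obtain ⟨_, ⟨(V : Y.Opens), hV, rfl⟩, hyV, hVE⟩ :=
    Y.isBasis_affineOpens.exists_subset_of_mem_open (show y ∈ Eᶜ from hyE) hE.isOpen_compl
  refine ⟨V, hV, hyV, ?_⟩
  have hsub : (V : Set Y) ⊆ C.1 := fun t ht => by
    by_contra htC
    exact hVE ht (Set.mem_iUnion.mpr ⟨⟨⟨irreducibleComponent t, irreducibleComponent_mem_irreducibleComponents t⟩,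
      fun e => htC (e ▸ (mem_irreducibleComponent : t ∈ irreducibleComponent t))⟩, mem_irreducibleComponent⟩)
  haveI : IrreducibleSpace (V : Scheme.{u}) :=
    isIrreducible_iff_irreducibleSpace.mp ⟨⟨y, hyV⟩, (C.2.1.2).open_subset V.2 hsub⟩
  exact isIntegral_of_irreducibleSpace_of_isReduced _

variable {f : X ⟶ Y} {U : Y.Opens} {u : (U : Scheme.{u}) ⟶ X}

theorem range_subset (hu : u ≫ f = U.ι) : Set.range u ⊆ f ⁻¹ᵁ U := by
  rintro _ ⟨t, rfl⟩
  show f (u t) ∈ U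
  rw [← Scheme.Hom.comp_apply, hu]
  exact t.2

theorem isOpenImmersion_section [LocallyOfFiniteType f] [FormallyUnramified f] (hu : u ≫ f = U.ι) :
    IsOpenImmersion u := by
  haveI : Etale (u ≫ f) := by rw [hu]; infer_instance
  haveI : Etale u := Etale.of_comp u f
  haveI : Mono (u ≫ f) := by rw [hu]; infer_instance
  haveI : Mono u := mono_of_mono u f
  exact IsOpenImmersion.of_flat_of_mono u

theorem mem_range_of_mem_closure [IsSeparated f] (hu : u ≫ f = U.ι) {x : X} (hx : x ∈ closure (Set.range u))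
    (hxU : f x ∈ U) : x ∈ Set.range u := by
  let s := IsOpenImmersion.lift (f ⁻¹ᵁ U).ι u (by rw [Scheme.Opens.range_ι]; exact range_subset hu)
  have hs : s ≫ (f ⁻¹ᵁ U).ι = u := IsOpenImmersion.lift_fac _ _ _
  haveI : IsClosedImmersion (s ≫ (f ∣_ U)) := by
    have : s ≫ (f ∣_ U) = 𝟙 _ := by
      rw [← cancel_mono U.ι, Category.assoc, morphismRestrict_ι, reassoc_of% hs, hu, Category.id_comp]
    rw [this]
    infer_instance
  haveI : IsClosedImmersion s := IsClosedImmersion.of_comp s (f ∣_ U)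
  have hcl := s.isClosedEmbedding.isClosed_range
  have h1 : (⟨x, hxU⟩ : (f ⁻¹ᵁ U : Scheme.{u})) ∈ closure (Set.range s) := by
    rw [(f ⁻¹ᵁ U).ι.isOpenEmbedding.isInducing.closure_eq_preimage_closure_image, Set.mem_preimage,
      ← Set.range_comp]
    refine closure_mono ?_ hx
    rintro _ ⟨t, rfl⟩
    exact ⟨t, congr($hs t)⟩
  obtain ⟨t, ht⟩ := hcl.closure_eq ▸ h1
  exact ⟨t, (congr($hs t)).symm.trans (congrArg Subtype.val ht)⟩

set_option maxHeartbeats 800000 in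
/-- The extension of a section through a point of the closure of its image. -/
theorem exists_extension [AlgebraicGeometry.IsReduced Y]
    (hcomp : LocallyFinite (fun Z : ↥(irreducibleComponents ↥Y) => (Z : Set ↥Y)))
    [IsSeparated f] [LocallyOfFiniteType f] [FormallyUnramified f] (hU : Dense (U : Set ↥Y))
    (hu : u ≫ f = U.ι) {z : X} (hz : z ∈ closure (Set.range u))
    (hy : CAlg2.IsGeomUnibranch (Y.presheaf.stalk (f z))) :
    ∃ (V : Y.Opens) (v : (V : Scheme.{u}) ⟶ X), f z ∈ V ∧ v ≫ f = V.ι ∧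
      Y.homOfLE (inf_le_left : U ⊓ V ≤ U) ≫ u = Y.homOfLE (inf_le_right : U ⊓ V ≤ V) ≫ v := by
  haveI := isOpenImmersion_section hu
  haveI := isDomain_stalk hy
  obtain ⟨V₀, hV₀, hzV₀, hint⟩ := exists_integral_nhd hcomp (f z)
  haveI := hint
  haveI : IsAffine (V₀ : Scheme.{u}) := hV₀
  let η₀ : (V₀ : Scheme.{u}) := genericPoint (V₀ : Scheme.{u})
  have hηspec : ∀ t : Y, t ∈ V₀ → η₀.1 ⤳ t := fun t ht => by
    have h1 : η₀ ⤳ (⟨t, ht⟩ : (V₀ : Scheme.{u})) := (genericPoint_spec (V₀ : Scheme.{u})).specializes trivial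
    exact h1.map V₀.ι.continuous
  have hηU : η₀.1 ∈ U := by
    obtain ⟨t, htV, htU⟩ := hU.inter_open_nonempty V₀ V₀.2 ⟨_, hzV₀⟩
    exact (hηspec t htV).mem_open U.2 htU
  let x₁ : X := u ⟨η₀.1, hηU⟩
  have hfx₁ : f x₁ = η₀.1 := by rw [← Scheme.Hom.comp_apply, hu]; rfl
  have hx₁z : x₁ ⤳ z := by
    rw [specializes_iff_forall_open]
    intro O hO hzO
    obtain ⟨_, ⟨htO, htV⟩, t, rfl⟩ := mem_closure_iff.mp hz (O ∩ f ⁻¹ᵁ V₀) (hO.inter (f ⁻¹ᵁ V₀).2) ⟨hzO, hzV₀⟩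
    have htV' : t.1 ∈ V₀ := by
      have h := congr($hu t)
      rw [Scheme.Hom.comp_apply] at h
      exact (show f (u t) = t.1 from h) ▸ (show f (u t) ∈ V₀ from htV)
    have : (⟨η₀.1, hηU⟩ : (U : Scheme.{u})) ⤳ t :=
      Topology.IsInducing.subtypeVal.specializes_iff.mp (hηspec _ htV')
    exact (this.map u.continuous).mem_open hO htO
  let f₀ := f ∣_ V₀
  let z₀ : (f ⁻¹ᵁ V₀ : Scheme.{u}) := ⟨z, hzV₀⟩
  let x₀ : (f ⁻¹ᵁ V₀ : Scheme.{u}) := ⟨x₁, show f x₁ ∈ V₀ from hfx₁ ▸ η₀.2⟩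
  have hfx₀ : f₀ x₀ = η₀ := Subtype.ext ((morphismRestrict_base_coe f V₀ x₀).trans hfx₁)
  have hx₀z : x₀ ⤳ z₀ := Topology.IsInducing.subtypeVal.specializes_iff.mp hx₁z
  haveI : FormallyUnramified f₀ := IsZariskiLocalAtTarget.restrict ‹FormallyUnramified f› V₀
  have hyV : CAlg2.IsGeomUnibranch ((V₀ : Scheme.{u}).presheaf.stalk (f₀ z₀)) := by
    rw [show f₀ z₀ = (⟨f z, hzV₀⟩ : (V₀ : Scheme.{u})) from Subtype.ext (morphismRestrict_base_coe f V₀ z₀)]
    let e := (V₀.stalkIso ⟨f z, hzV₀⟩).commRingCatIsoToRingEquiv.symm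
    exact Groth.L07.Chevalley.isGeomUnibranch_of_surjective e.toRingHom e.surjective
      (fun x hx => by rw [show x = 0 from e.injective (hx.trans (map_zero e).symm)]; exact Ideal.zero_mem _) hy
  obtain ⟨W, hzW, hWe⟩ := Groth.Agent.S1451.result f₀ z₀ hyV ⟨x₀, hx₀z, hfx₀⟩
    ⟨⊤, trivial, IsZariskiLocalAtSource.comp (P := @FormallyUnramified) ‹FormallyUnramified f₀› _⟩
  obtain ⟨W', hW', hzW', hW'W⟩ := exists_isAffineOpen_mem_and_subset (U := W) hzW
  haveI : IsAffine (W' : Scheme.{u}) := hW'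
  let g : (W' : Scheme.{u}) ⟶ (V₀ : Scheme.{u}) := W'.ι ≫ f₀
  haveI : Etale g := by
    have : g = Scheme.homOfLE _ hW'W ≫ W.ι ≫ f₀ := by rw [Scheme.homOfLE_ι_assoc]
    rw [this]
    infer_instance
  let w₀ : (W' : Scheme.{u}) := ⟨z₀, hzW'⟩
  let w₁ : (W' : Scheme.{u}) := ⟨x₀, hx₀z.mem_open W'.2 hzW'⟩
  have hgw₁ : g w₁ = η₀ := hfx₀
  haveI hdom : IsDomain ((W' : Scheme.{u}).presheaf.stalk w₀) :=
    (Groth.Agent.S2754.result g w₀ inferInstance hyV
      ⟨⊤, trivial, IsZariskiLocalAtSource.comp (P := @Etale) ‹Etale g› _⟩).1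
  have huniq : ∀ a, g a = η₀ → a ⤳ w₀ → a = w₁ := by
    intro a ha haw
    let ξ := (W' : Scheme.{u}).fromSpecStalk w₀ (⊥ : PrimeSpectrum _)
    have hξ : ∀ b, b ⤳ w₀ → g b = η₀ → ξ = b := by
      intro b hb hgb
      obtain ⟨q, rfl⟩ : ∃ q, (W' : Scheme.{u}).fromSpecStalk w₀ q = b := Scheme.range_fromSpecStalk.ge hb
      have hq : ξ ⤳ (W' : Scheme.{u}).fromSpecStalk w₀ q :=
        ((PrimeSpectrum.le_iff_specializes _ q).mp bot_le).map
          ((W' : Scheme.{u}).fromSpecStalk w₀).continuous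
      refine Groth.L05.Henselization.FlatQF.eq_of_specializes g hq ?_
      rw [hgb]
      exact ((hq.map g.continuous).trans (specializes_of_eq hgb)).antisymm
        ((genericPoint_spec (V₀ : Scheme.{u})).specializes trivial) |>.eq
    rw [← hξ a haw ha, ← hξ w₁ (Topology.IsInducing.subtypeVal.specializes_iff.mp hx₀z) hgw₁]
  have hfin : (g ⁻¹' {η₀} \ {w₁}).Finite := (g.finite_preimage_singleton η₀).subset Set.sdiff_subset
  let W'' : (W' : Scheme.{u}).Opens :=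
    ⟨(⋃ a ∈ g ⁻¹' {η₀} \ {w₁}, closure {a})ᶜ, (hfin.isClosed_biUnion fun a _ => isClosed_closure).isOpen_compl⟩
  have hw₀ : w₀ ∈ W'' := by
    intro hmem
    obtain ⟨a, ⟨ha, hne⟩, haw⟩ := Set.mem_iUnion₂.mp hmem
    exact hne (huniq a ha (specializes_iff_mem_closure.mpr haw))
  let h : (W'' : Scheme.{u}) ⟶ (V₀ : Scheme.{u}) := W''.ι ≫ g
  haveI : IsSeparated f₀ := IsZariskiLocalAtTarget.restrict ‹IsSeparated f› V₀
  haveI : IsSeparated h := inferInstanceAs (IsSeparated (W''.ι ≫ W'.ι ≫ f₀))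
  let κ : (W'' : Scheme.{u}) ⟶ X := W''.ι ≫ W'.ι ≫ (f ⁻¹ᵁ V₀).ι
  have hκf : κ ≫ f = h ≫ V₀.ι := by
    simp only [κ, h, g, f₀, Category.assoc, morphismRestrict_ι]
  let N₀ : (V₀ : Scheme.{u}).Opens := V₀.ι ⁻¹ᵁ U
  let T := h ⁻¹ᵁ N₀
  have hTU : ∀ t ∈ T, f (κ t) ∈ U := fun t ht => by
    rw [← Scheme.Hom.comp_apply, hκf]
    exact ht
  have hT : ∀ t ∈ T, κ t ∈ Set.range u := by
    intro t ht
    by_contra htu
    let O : (W'' : Scheme.{u}).Opens := T ⊓ ⟨κ ⁻¹' (closure (Set.range u))ᶜ,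
      isClosed_closure.isOpen_compl.preimage κ.continuous⟩
    have htO : t ∈ O := ⟨ht, fun hc => htu (mem_range_of_mem_closure hu hc (hTU t ht))⟩
    obtain ⟨a, ⟨-, haC⟩, hga⟩ : η₀ ∈ h '' (O : Set (W'' : Scheme.{u})) :=
      ((genericPoint_spec (V₀ : Scheme.{u})).mem_open_set_iff (h.isOpenMap _ O.2)).2 ⟨h t, trivial, t, htO, rfl⟩
    have haw : a.1 = w₁ := by
      by_contra hne
      exact a.2 (Set.mem_iUnion₂.mpr ⟨a.1, ⟨hga, hne⟩, subset_closure rfl⟩)
    refine haC (subset_closure ⟨⟨η₀.1, hηU⟩, ?_⟩)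
    show x₁ = ((a.1).1).1
    rw [haw]
  have hTr : Set.range (T.ι ≫ κ) ⊆ Set.range u := by
    rintro _ ⟨t, rfl⟩
    exact hT t.1 t.2
  let a := IsOpenImmersion.lift u (T.ι ≫ κ) hTr
  have ha : a ≫ u = T.ι ≫ κ := IsOpenImmersion.lift_fac _ _ _
  have haι : a ≫ U.ι = T.ι ≫ h ≫ V₀.ι := by rw [← hu, reassoc_of% ha, hκf]
  haveI : IsOpenImmersion κ := inferInstanceAs (IsOpenImmersion (W''.ι ≫ W'.ι ≫ (f ⁻¹ᵁ V₀).ι))
  haveI : Mono (T.ι ≫ h) := ⟨fun {T'} p q hpq => by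
    have hpa : p ≫ a = q ≫ a := by
      rw [← cancel_mono U.ι, Category.assoc, Category.assoc, haι]
      simpa using congrArg (· ≫ V₀.ι) hpq
    rw [← cancel_mono (T.ι ≫ κ), ← ha, reassoc_of% hpa]⟩
  haveI : IsOpenImmersion h := Groth.L05.NeronOpen.isOpenImmersion_of_dense h N₀
    (N₀.2.dense ⟨η₀, hηU⟩)
  let j := h ≫ V₀.ι
  refine ⟨j.opensRange, j.isoOpensRange.inv ≫ κ, ⟨⟨w₀, hw₀⟩, ?_⟩, ?_, ?_⟩
  · show j ⟨w₀, hw₀⟩ = f z
    exact (congr($hκf ⟨w₀, hw₀⟩)).symm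
  · rw [Category.assoc, hκf, Scheme.Hom.isoOpensRange_inv_comp]
  · let m := Y.homOfLE (inf_le_right : U ⊓ j.opensRange ≤ j.opensRange) ≫ j.isoOpensRange.inv
    have hm : m ≫ h ≫ V₀.ι = (U ⊓ j.opensRange).ι := by
      simp only [m, Category.assoc]
      rw [show j.isoOpensRange.inv ≫ h ≫ V₀.ι = j.opensRange.ι from Scheme.Hom.isoOpensRange_inv_comp j,
        Scheme.homOfLE_ι]
    let l := IsOpenImmersion.lift T.ι m (by
      rw [Scheme.Opens.range_ι]
      rintro _ ⟨t, rfl⟩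
      show (h ≫ V₀.ι) (m t) ∈ U
      rw [← Scheme.Hom.comp_apply, hm]
      exact t.2.1)
    have hl : l ≫ a = Y.homOfLE (inf_le_left : U ⊓ j.opensRange ≤ U) := by
      rw [← cancel_mono U.ι, Category.assoc, haι, Scheme.homOfLE_ι, IsOpenImmersion.lift_fac_assoc, hm]
    rw [← hl, Category.assoc, ha, IsOpenImmersion.lift_fac_assoc]
    simp [m]

end Groth.L05.SectionExtend
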